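import Groth.Prelude.Def_MoreMor
import Mathlib.AlgebraicGeometry.QuasiAffine
import Mathlib.AlgebraicGeometry.Morphisms.QuasiSeparated

/-!
# Quasi-affine and ind-quasi-affine morphisms
-/

universe u

open CategoryTheory AlgebraicGeometry Limits TopologicalSpace

namespace GrothLib.IndQA

variable {X Y Z : Scheme.{u}}

theorem qa_mono {U W : X.Opens} (hW : Scheme.IsQuasiAffine (W : Scheme.{u}))
    (hU : IsCompact (U : Set X)) (h : U ≤ W) : Scheme.IsQuasiAffine (U : Scheme.{u}) := by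
  haveI : CompactSpace (U : Scheme.{u}) := isCompact_iff_compactSpace.mp hU
  exact Scheme.IsQuasiAffine.of_isImmersion (X.homOfLE h)

theorem qa_of_iso (e : X ≅ Y) [hY : Scheme.IsQuasiAffine Y] : Scheme.IsQuasiAffine X :=
  Scheme.IsQuasiAffine.of_isAffineHom e.hom

theorem qa_image_iff (j : X ⟶ Y) [IsOpenImmersion j] (U : X.Opens) :
    Scheme.IsQuasiAffine (U : Scheme.{u}) ↔ Scheme.IsQuasiAffine ((j ''ᵁ U : Y.Opens) : Scheme.{u}) :=
  ⟨fun _ => qa_of_iso (j.isoImage U).symm, fun _ => qa_of_iso (j.isoImage U)⟩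

theorem qa_top_iff (X : Scheme.{u}) :
    Scheme.IsQuasiAffine ((⊤ : X.Opens) : Scheme.{u}) ↔ Scheme.IsQuasiAffine X :=
  ⟨fun _ => qa_of_iso X.topIso.symm, fun _ => qa_of_iso X.topIso⟩

/-- Quasi-affineness can be checked on basic opens of global sections. -/
theorem qa_of_basicOpen [CompactSpace X]
    (H : ∀ x : X, ∃ r : Γ(X, ⊤), x ∈ X.basicOpen r ∧
      Scheme.IsQuasiAffine (X.basicOpen r : Scheme.{u})) : Scheme.IsQuasiAffine X := by
  choose r hxr hr using H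
  haveI : QuasiSeparatedSpace X :=
    .of_isOpenCover (U := fun x => X.basicOpen (r x))
      (eq_top_iff.mpr fun x _ => Opens.mem_iSup.mpr ⟨x, hxr x⟩)
      (fun _ => isRetrocompact_basicOpen _) fun x => by
        haveI := hr x
        exact (isQuasiSeparated_iff_quasiSeparatedSpace _ (X.basicOpen (r x)).2).mpr
          (inferInstanceAs (QuasiSeparatedSpace (X.basicOpen (r x) : Scheme.{u})))
  refine Scheme.IsQuasiAffine.of_forall_exists_mem_basicOpen X fun x => ?_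
  have hx := hr x
  set U := X.basicOpen (r x) with hU
  haveI := hx
  obtain ⟨_, ⟨_, ⟨s, hs, rfl⟩, rfl⟩, hxs, -⟩ :=
    (Scheme.IsQuasiAffine.isBasis_basicOpen (U : Scheme.{u})).exists_subset_of_mem_open
      (Set.mem_univ (⟨x, hxr x⟩ : U)) isOpen_univ
  let s₀ : Γ(X, U) := U.topIso.hom s
  have himg : U.ι ''ᵁ (U : Scheme.{u}).basicOpen s = X.basicOpen s₀ := by
    rw [Scheme.image_basicOpen]
    simp [s₀, Scheme.Opens.topIso]
    haveI : ∀ {V W : (Opens X)ᵒᵖ} (e : V = W), IsIso (eqToHom e) := fun e => by subst e; infer_instance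
    exact (X.basicOpen_res_eq (s : Γ(X, U.ι ''ᵁ ⊤)) (eqToHom (congrArg Opposite.op U.ι_image_top))).symm
  have haff : IsAffineOpen (X.basicOpen s₀) := himg ▸ hs.image_of_isOpenImmersion U.ι
  have hmem : x ∈ X.basicOpen s₀ := himg ▸ ⟨⟨x, hxr x⟩, hxs, rfl⟩
  haveI := isLocalization_basicOpen_of_qcqs isCompact_univ isQuasiSeparated_univ (r x)
  obtain ⟨⟨t, _, n, rfl⟩, ht⟩ := IsLocalization.surj (Submonoid.powers (r x)) (S := Γ(X, U)) s₀
  have hunit : IsUnit ((algebraMap Γ(X, ⊤) Γ(X, U)) (r x ^ n)) :=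
    IsLocalization.map_units Γ(X, U) (⟨r x ^ n, n, rfl⟩ : Submonoid.powers (r x))
  have hres : X.basicOpen (algebraMap Γ(X, ⊤) Γ(X, U) t) = U ⊓ X.basicOpen t :=
    X.basicOpen_res t (homOfLE le_top).op
  refine ⟨t * r x, ?_⟩
  have : X.basicOpen (t * r x) = X.basicOpen s₀ := by
    rw [Scheme.basicOpen_mul, inf_comm, ← hU, ← hres, ← ht, Scheme.basicOpen_mul,
      X.basicOpen_of_isUnit hunit, inf_eq_left]
    exact X.basicOpen_le s₀
  rw [this]
  exact ⟨haff, hmem⟩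

theorem qa_of_forall_preimage [CompactSpace X] (f : X ⟶ Y)
    (H : ∀ x : X, ∃ r : Γ(Y, ⊤), f x ∈ Y.basicOpen r ∧
      Scheme.IsQuasiAffine ((f ⁻¹ᵁ Y.basicOpen r : X.Opens) : Scheme.{u})) :
    Scheme.IsQuasiAffine X := by
  refine qa_of_basicOpen fun x => ?_
  obtain ⟨r, hr, hq⟩ := H x
  refine ⟨f.appTop r, ?_⟩
  rw [← Scheme.preimage_basicOpen_top]
  exact ⟨hr, hq⟩

/-- Reformulation of `IsIndQuasiAffineHom` with opens of the source. -/
theorem indQA_iff (f : X ⟶ Y) : MoreMor.IsIndQuasiAffineHom f ↔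
    ∀ V : Y.Opens, IsAffineOpen V → ∀ U : X.Opens, U ≤ f ⁻¹ᵁ V → IsCompact (U : Set X) →
      Scheme.IsQuasiAffine (U : Scheme.{u}) := by
  constructor
  · intro h V hV U hle hU
    let W := (f ⁻¹ᵁ V).ι ⁻¹ᵁ U
    have hW : (f ⁻¹ᵁ V).ι ''ᵁ W = U := by
      rw [Scheme.Hom.image_preimage_eq_opensRange_inf, Scheme.Opens.opensRange_ι, inf_eq_right]
      exact hle
    have hWc : IsCompact (W : Set (f ⁻¹ᵁ V : Scheme.{u})) := by
      rw [(f ⁻¹ᵁ V).ι.isOpenEmbedding.isInducing.isCompact_iff, ← Scheme.Hom.coe_image, hW]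
      exact hU
    have := (qa_image_iff (f ⁻¹ᵁ V).ι W).mp (h V hV W hWc)
    rwa [hW] at this
  · intro h V hV W hW
    rw [qa_image_iff (f ⁻¹ᵁ V).ι W]
    exact h V hV _ (Scheme.Opens.ι_image_le _ W) (by
      rw [Scheme.Hom.coe_image]
      exact hW.image (f ⁻¹ᵁ V).ι.continuous)

theorem indQA_of_isImmersion (f : X ⟶ Y) [IsImmersion f] : MoreMor.IsIndQuasiAffineHom f := by
  refine (indQA_iff f).mpr fun V hV U hle hU => ?_
  haveI : IsAffine (V : Scheme.{u}) := hV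
  haveI : CompactSpace (U : Scheme.{u}) := isCompact_iff_compactSpace.mp hU
  haveI : IsImmersion (f.resLE V U hle ≫ V.ι) := by rw [Scheme.Hom.resLE_comp_ι]; infer_instance
  haveI : IsImmersion (f.resLE V U hle) := IsImmersion.of_comp _ V.ι
  exact Scheme.IsQuasiAffine.of_isImmersion (f.resLE V U hle)

theorem indQA_comp (f : X ⟶ Y) (g : Y ⟶ Z) (hf : MoreMor.IsIndQuasiAffineHom f)
    (hg : MoreMor.IsIndQuasiAffineHom g) : MoreMor.IsIndQuasiAffineHom (f ≫ g) := by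
  rw [indQA_iff] at hf hg ⊢
  intro W hW U hle hU
  obtain ⟨V, hVc, hVle, hUV⟩ : ∃ V : Y.Opens, IsCompact (V : Set Y) ∧ V ≤ g ⁻¹ᵁ W ∧ U ≤ f ⁻¹ᵁ V := by
    have hcov : f '' (U : Set X) ⊆ ⋃ A : {A : Y.Opens // IsAffineOpen A ∧ A ≤ g ⁻¹ᵁ W}, (A.1 : Set Y) := by
      rintro _ ⟨x, hx, rfl⟩
      obtain ⟨_, ⟨A, hA, rfl⟩, hxA, hAW⟩ :=
        Y.isBasis_affineOpens.exists_subset_of_mem_open (show f x ∈ g ⁻¹ᵁ W from hle hx)
          (g ⁻¹ᵁ W).2
      exact Set.mem_iUnion.mpr ⟨⟨A, hA, hAW⟩, hxA⟩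
    obtain ⟨t, ht⟩ := (hU.image f.continuous).elim_finite_subcover _ (fun A => A.1.2) hcov
    refine ⟨⨆ A ∈ t, A.1, ?_, iSup₂_le fun A _ => A.2.2, fun x hx => ?_⟩
    · simp only [Opens.coe_iSup]
      exact t.finite_toSet.isCompact_biUnion fun A _ => A.2.1.isCompact
    · obtain ⟨A, hA, hxA⟩ := Set.mem_iUnion₂.mp (ht ⟨x, hx, rfl⟩)
      exact Opens.mem_iSup.mpr ⟨A, Opens.mem_iSup.mpr ⟨hA, hxA⟩⟩
  haveI := hg W hW V hVle hVc
  haveI : CompactSpace (U : Scheme.{u}) := isCompact_iff_compactSpace.mp hU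
  let h := f.resLE V U hUV
  refine qa_of_forall_preimage h fun x => ?_
  obtain ⟨_, ⟨_, ⟨r, hr, rfl⟩, rfl⟩, hxr, -⟩ :=
    (Scheme.IsQuasiAffine.isBasis_basicOpen (V : Scheme.{u})).exists_subset_of_mem_open
      (Set.mem_univ (h x)) isOpen_univ
  refine ⟨r, hxr, ?_⟩
  rw [qa_image_iff U.ι]
  refine hf (V.ι ''ᵁ (V : Scheme.{u}).basicOpen r) (hr.image_of_isOpenImmersion V.ι) _ ?_ ?_
  · rintro _ ⟨y, hy, rfl⟩
    refine ⟨h y, hy, ?_⟩
    exact congr($(Scheme.Hom.resLE_comp_ι f hUV) y)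
  · rw [Scheme.Hom.coe_image]
    exact (h.isCompact_preimage hr.isCompact).image U.ι.continuous

theorem indQA_baseChange {S X' S' : Scheme.{u}} (f : X ⟶ S) (f' : X' ⟶ S') (g' : X' ⟶ X)
    (g : S' ⟶ S) (hc : IsPullback g' f' f g) (hf : MoreMor.IsIndQuasiAffineHom f) :
    MoreMor.IsIndQuasiAffineHom f' := by
  rw [indQA_iff] at hf ⊢
  have key : ∀ (V : S'.Opens), IsAffineOpen V → ∀ W : S.Opens, IsAffineOpen W → V ≤ g ⁻¹ᵁ W →
      ∀ U : X'.Opens, U ≤ f' ⁻¹ᵁ V → IsCompact (U : Set X') →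
        Scheme.IsQuasiAffine (U : Scheme.{u}) := by
    intro V hV W hW hVW U hle hU
    have himg : g' '' (U : Set X') ⊆ (f ⁻¹ᵁ W : X.Opens) := by
      rintro _ ⟨x, hx, rfl⟩
      show f (g' x) ∈ W
      rw [← Scheme.Hom.comp_apply, hc.w, Scheme.Hom.comp_apply]
      exact hVW (hle hx)
    obtain ⟨A, hAc, hAle, hUA⟩ : ∃ A : X.Opens, IsCompact (A : Set X) ∧ A ≤ f ⁻¹ᵁ W ∧ U ≤ g' ⁻¹ᵁ A := by
      have hcov : g' '' (U : Set X') ⊆ ⋃ A : {A : X.Opens // IsAffineOpen A ∧ A ≤ f ⁻¹ᵁ W}, (A.1 : Set X) := by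
        intro y hy
        obtain ⟨_, ⟨A, hA, rfl⟩, hyA, hAW⟩ :=
          X.isBasis_affineOpens.exists_subset_of_mem_open (himg hy) (f ⁻¹ᵁ W).2
        exact Set.mem_iUnion.mpr ⟨⟨A, hA, hAW⟩, hyA⟩
      obtain ⟨t, ht⟩ := (hU.image g'.continuous).elim_finite_subcover _ (fun A => A.1.2) hcov
      refine ⟨⨆ A ∈ t, A.1, ?_, iSup₂_le fun A _ => A.2.2, fun x hx => ?_⟩
      · simp only [Opens.coe_iSup]
        exact t.finite_toSet.isCompact_biUnion fun A _ => A.2.1.isCompact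
      · obtain ⟨A, hA, hxA⟩ := Set.mem_iUnion₂.mp (ht ⟨x, hx, rfl⟩)
        exact Opens.mem_iSup.mpr ⟨A, Opens.mem_iSup.mpr ⟨hA, hxA⟩⟩
    haveI := hf W hW A hAle hAc
    haveI : IsAffine (V : Scheme.{u}) := hV
    haveI : IsAffine (W : Scheme.{u}) := hW
    let fA := f.resLE W A hAle
    let gV := g.resLE W V hVW
    haveI : IsAffineHom gV := isAffineHom_of_isAffine gV
    haveI : IsAffineHom (pullback.fst fA gV) := MorphismProperty.pullback_fst _ _ ‹_›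
    haveI : Scheme.IsQuasiAffine (pullback fA gV) :=
      Scheme.IsQuasiAffine.of_isAffineHom (pullback.fst fA gV)
    haveI : CompactSpace (U : Scheme.{u}) := isCompact_iff_compactSpace.mp hU
    let l : (U : Scheme.{u}) ⟶ pullback fA gV :=
      pullback.lift (g'.resLE A U hUA) (f'.resLE V U hle) (by
        rw [← cancel_mono W.ι]
        simp [fA, gV, hc.w])
    let m : pullback fA gV ⟶ X' :=
      hc.lift (pullback.fst fA gV ≫ A.ι) (pullback.snd fA gV ≫ V.ι) (by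
        have := congrArg (· ≫ W.ι) (pullback.condition (f := fA) (g := gV))
        simpa [fA, gV] using this)
    have hlm : l ≫ m = U.ι := by
      apply hc.hom_ext
      · rw [Category.assoc, hc.lift_fst, pullback.lift_fst_assoc, Scheme.Hom.resLE_comp_ι]
      · rw [Category.assoc, hc.lift_snd, pullback.lift_snd_assoc, Scheme.Hom.resLE_comp_ι]
    haveI : IsImmersion (l ≫ m) := by rw [hlm]; infer_instance
    haveI : IsImmersion l := IsImmersion.of_comp l m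
    exact Scheme.IsQuasiAffine.of_isImmersion l
  intro V hV U hle hU
  haveI : IsAffine (V : Scheme.{u}) := hV
  haveI : CompactSpace (U : Scheme.{u}) := isCompact_iff_compactSpace.mp hU
  let h := f'.resLE V U hle
  refine qa_of_forall_preimage h fun x => ?_
  obtain ⟨_, ⟨W, hW, rfl⟩, hyW, -⟩ :=
    S.isBasis_affineOpens.exists_subset_of_mem_open (Set.mem_univ (g (V.ι (h x)))) isOpen_univ
  obtain ⟨_, ⟨_, ⟨r, rfl⟩, rfl⟩, hxr, hrW⟩ :=
    (isBasis_basicOpen (V : Scheme.{u})).exists_subset_of_mem_open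
      (show h x ∈ V.ι ⁻¹ᵁ (g ⁻¹ᵁ W) from hyW) (V.ι ⁻¹ᵁ (g ⁻¹ᵁ W)).2
  refine ⟨r, hxr, ?_⟩
  rw [qa_image_iff U.ι]
  have hr : IsAffineOpen ((V : Scheme.{u}).basicOpen r) := (isAffineOpen_top _).basicOpen r
  refine key (V.ι ''ᵁ (V : Scheme.{u}).basicOpen r) (hr.image_of_isOpenImmersion V.ι) W hW ?_ _ ?_ ?_
  · rintro _ ⟨y, hy, rfl⟩
    exact hrW hy
  · rintro _ ⟨y, hy, rfl⟩
    refine ⟨h y, hy, ?_⟩
    exact congr($(Scheme.Hom.resLE_comp_ι f' hle) y)
  · rw [Scheme.Hom.coe_image]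
    exact (h.isCompact_preimage hr.isCompact).image U.ι.continuous

theorem indQA_of_comp (f : X ⟶ Y) (g : Y ⟶ Z) (h : MoreMor.IsIndQuasiAffineHom (f ≫ g)) :
    MoreMor.IsIndQuasiAffineHom f := by
  let Γf := pullback.lift (f := f ≫ g) (g := g) (𝟙 X) f (Category.id_comp _)
  haveI : IsImmersion (Γf ≫ pullback.fst (f ≫ g) g) := by
    rw [pullback.lift_fst]; infer_instance
  haveI : IsImmersion Γf := IsImmersion.of_comp Γf (pullback.fst (f ≫ g) g)
  have h1 := indQA_baseChange _ _ _ _ (IsPullback.of_hasPullback (f ≫ g) g) h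
  have h2 := indQA_comp Γf _ (indQA_of_isImmersion Γf) h1
  rwa [pullback.lift_snd] at h2

end GrothLib.IndQA
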